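import Cfsg.Agent.H29.SpDegree.Weights

set_option autoImplicit false

/-!
The product of `n` copies of `SL₂` inside `Sp₂ₙ`.
-/

namespace CfsgLib.H29.SpDegree

open Matrix

variable {F : Type*} [Field F] {n : ℕ}

/-- The block diagonal embedding. -/
def blockMat (z : Fin n → SpecialLinearGroup (Fin 2) F) : Matrix (Fin n ⊕ Fin n) (Fin n ⊕ Fin n) F :=
  fromBlocks (diagonal fun i => z i 0 0) (diagonal fun i => z i 0 1)
    (diagonal fun i => z i 1 0) (diagonal fun i => z i 1 1)

theorem blockMat_mem (z : Fin n → SpecialLinearGroup (Fin 2) F) :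
    blockMat z ∈ symplecticGroup (Fin n) F := by
  have h : ∀ i, z i 0 0 * z i 1 1 - z i 0 1 * z i 1 0 = 1 := fun i => by
    have := (z i).2; rwa [det_fin_two] at this
  rw [SymplecticGroup.mem_iff, blockMat, J, fromBlocks_transpose, fromBlocks_multiply,
    fromBlocks_multiply]
  congr 1 <;>
    (ext i j
     by_cases hij : i = j
     · subst hij; simp [diagonal_transpose]; first | ring1 | linear_combination h i | linear_combination -h i
     · simp [diagonal_transpose, hij])

/-- The embedding of a power of `SL₂` in `Sp₂ₙ`. -/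
def blockHom : (Fin n → SpecialLinearGroup (Fin 2) F) →* symplecticGroup (Fin n) F :=
  MonoidHom.mk' (fun z => ⟨blockMat z, blockMat_mem z⟩) fun a b => Subtype.ext (by
    change blockMat (a * b) = blockMat a * blockMat b
    simp only [blockMat, fromBlocks_multiply, diagonal_mul_diagonal, diagonal_add]
    congr 1 <;> congr 1 <;> ext i <;> simp [Matrix.mul_apply])

theorem blockHom_injective : Function.Injective (blockHom (F := F) (n := n)) := fun a b h => by
  have h' : blockMat a = blockMat b := congrArg Subtype.val h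
  funext i
  ext r c
  fin_cases r <;> fin_cases c
  · simpa [blockMat] using congrFun (congrFun h' (Sum.inl i)) (Sum.inl i)
  · simpa [blockMat] using congrFun (congrFun h' (Sum.inl i)) (Sum.inr i)
  · simpa [blockMat] using congrFun (congrFun h' (Sum.inr i)) (Sum.inl i)
  · simpa [blockMat] using congrFun (congrFun h' (Sum.inr i)) (Sum.inr i)

/-- A matrix of determinant one. -/
def mk2 (a b c d : F) (h : a * d - b * c = 1) : SpecialLinearGroup (Fin 2) F :=
  ⟨!![a, b; c, d], by rw [det_fin_two_of, h]⟩

@[simp] theorem coe_mk2 (a b c d : F) (h : a * d - b * c = 1) :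
    (mk2 a b c d h : Matrix (Fin 2) (Fin 2) F) = !![a, b; c, d] := rfl

theorem exists_inverted [Fintype F] (p : ℕ) [Fact p.Prime] [CharP F p] :
    ∃ x w : SpecialLinearGroup (Fin 2) F, w * x = x⁻¹ * w ∧ x ^ 2 ≠ 1 ∧ (orderOf x).Coprime p := by
  classical
  have hp := (Fact.out : p.Prime)
  by_cases h : ∃ a : F, a ≠ 0 ∧ a ^ 2 ≠ 1
  · obtain ⟨a, ha, ha2⟩ := h
    let X : SpecialLinearGroup (Fin 2) F := mk2 a 0 0 a⁻¹ (by simp [ha])
    refine ⟨X, mk2 0 1 (-1) 0 (by simp), ?_, fun e => ha2 ?_, ?_⟩
    · apply Subtype.ext
      rw [Matrix.SpecialLinearGroup.coe_mul, Matrix.SpecialLinearGroup.coe_mul,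
        Matrix.SpecialLinearGroup.coe_inv]
      simp [X, Matrix.adjugate_fin_two]
    · have := congrFun (congrFun (congrArg (fun z : SpecialLinearGroup (Fin 2) F => (z : Matrix (Fin 2) (Fin 2) F)) e) 0) 0
      simpa [X, pow_two, Matrix.mul_apply] using this
    · have hx : X ^ (Fintype.card F - 1) = 1 := by
        apply Subtype.ext
        have : (X : Matrix (Fin 2) (Fin 2) F) = diagonal ![a, a⁻¹] := by
          ext i j; fin_cases i <;> fin_cases j <;> simp [X]
        rw [Matrix.SpecialLinearGroup.coe_pow, this, diagonal_pow, Matrix.SpecialLinearGroup.coe_one,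
          ← diagonal_one]
        congr 1
        ext i
        fin_cases i <;> simp [FiniteField.pow_card_sub_one_eq_one, ha]
      refine Nat.Coprime.coprime_dvd_left (orderOf_dvd_of_pow_eq_one hx) ?_
      rw [Nat.coprime_comm, hp.coprime_iff_not_dvd]
      intro hd
      obtain ⟨k, -, hk⟩ := FiniteField.card F p
      have h1 : p ∣ Fintype.card F := hk ▸ dvd_pow_self p k.pos.ne'
      have := Nat.dvd_sub h1 hd
      rw [Nat.sub_sub_self Fintype.card_pos] at this
      exact hp.one_lt.ne' (Nat.dvd_one.mp this)
  · push Not at h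
    have hcases : (2 : F) = 0 ∨ (3 : F) = 0 := by
      by_cases h2 : (2 : F) = 0
      · exact Or.inl h2
      · exact Or.inr (by linear_combination h 2 h2)
    rcases hcases with h2 | h3
    · refine ⟨mk2 0 1 (-1) (-1) (by simp), mk2 0 1 1 0 (by linear_combination -h2), ?_, fun e => ?_, ?_⟩
      · apply Subtype.ext
        rw [Matrix.SpecialLinearGroup.coe_mul, Matrix.SpecialLinearGroup.coe_mul,
          Matrix.SpecialLinearGroup.coe_inv]
        ext i j
        fin_cases i <;> fin_cases j <;> simp [Matrix.adjugate_fin_two] <;>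
          linear_combination h2
      · have := congrFun (congrFun (congrArg (fun z : SpecialLinearGroup (Fin 2) F => (z : Matrix (Fin 2) (Fin 2) F)) e) 0) 1
        simp [pow_two, Matrix.mul_apply] at this
      · obtain rfl : p = 2 := (Nat.prime_dvd_prime_iff_eq hp Nat.prime_two).mp
          ((CharP.cast_eq_zero_iff F p 2).mp (by simpa using h2))
        refine Nat.Coprime.coprime_dvd_left (orderOf_dvd_of_pow_eq_one (n := 3) ?_) (by norm_num)
        apply Subtype.ext
        rw [Matrix.SpecialLinearGroup.coe_pow, Matrix.SpecialLinearGroup.coe_one]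
        ext i j
        fin_cases i <;> fin_cases j <;> simp [pow_succ, Matrix.mul_apply]
    · refine ⟨mk2 0 1 (-1) 0 (by simp), mk2 1 1 1 (-1) (by linear_combination -h3), ?_, fun e => ?_, ?_⟩
      · apply Subtype.ext
        rw [Matrix.SpecialLinearGroup.coe_mul, Matrix.SpecialLinearGroup.coe_mul,
          Matrix.SpecialLinearGroup.coe_inv]
        simp [Matrix.adjugate_fin_two]
      · have := congrFun (congrFun (congrArg (fun z : SpecialLinearGroup (Fin 2) F => (z : Matrix (Fin 2) (Fin 2) F)) e) 0) 0
        simp [pow_two, Matrix.mul_apply] at this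
        exact one_ne_zero (α := F) (by linear_combination h3 + this)
      · obtain rfl : p = 3 := (Nat.prime_dvd_prime_iff_eq hp Nat.prime_three).mp
          ((CharP.cast_eq_zero_iff F p 3).mp (by simpa using h3))
        refine Nat.Coprime.coprime_dvd_left (orderOf_dvd_of_pow_eq_one (n := 4) ?_) (by norm_num)
        apply Subtype.ext
        rw [Matrix.SpecialLinearGroup.coe_pow, Matrix.SpecialLinearGroup.coe_one]
        ext i j
        fin_cases i <;> fin_cases j <;> simp [pow_succ, Matrix.mul_apply]

theorem main [Fintype F] {d : ℕ} (ρ : symplecticGroup (Fin n) F →* GL (Fin d) F)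
    (hρ : Function.Injective ρ) : 2 * n ≤ d := by
  classical
  obtain ⟨p, _⟩ := CharP.exists F
  have := Fact.mk (CharP.char_is_prime F p)
  obtain ⟨x, w, hwx, hsq, hcop⟩ := exists_inverted (F := F) p
  let K := AlgebraicClosure F
  let u : GL (Fin d) F →* Module.End K (Fin d → K) :=
    (Matrix.toLinAlgEquiv' : Matrix (Fin d) (Fin d) K ≃ₐ[K] _).toMonoidHom.comp
      (((algebraMap F K).mapMatrix : Matrix (Fin d) (Fin d) F →+* Matrix (Fin d) (Fin d) K).toMonoidHom.comp
        (Units.coeHom (Matrix (Fin d) (Fin d) F)))
  have hu : Function.Injective u :=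
    (Matrix.toLinAlgEquiv' : Matrix (Fin d) (Fin d) K ≃ₐ[K] _).injective.comp
      ((Matrix.map_injective (algebraMap F K).injective).comp Units.val_injective)
  have : CharP K p := charP_of_injective_algebraMap' F p
  have := two_mul_le_finrank p n ((u.comp ρ).comp (blockHom (F := F) (n := n)))
    ((hu.comp hρ).comp blockHom_injective) (fun i => Pi.mulSingle i x) (fun i => Pi.mulSingle i w)
    (fun i j => by
      rcases eq_or_ne i j with rfl | h
      · exact Commute.refl _
      · exact Pi.mulSingle_commute (f := fun _ : Fin n => SpecialLinearGroup (Fin 2) F) h x x)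
    (fun i => by rw [← Pi.mulSingle_inv, ← Pi.mulSingle_mul, ← Pi.mulSingle_mul, hwx])
    (fun i j h => Pi.mulSingle_commute (f := fun _ : Fin n => SpecialLinearGroup (Fin 2) F) h w x)
    (fun i e => hsq (by
      have := congrFun e i
      simpa using this))
    (fun i => by
      rwa [show Pi.mulSingle i x = MonoidHom.mulSingle (fun _ : Fin n => SpecialLinearGroup (Fin 2) F) i x
        from rfl, orderOf_injective _ (fun a b e => by simpa using congrFun e i)])
  rwa [Module.finrank_fin_fun] at this

end CfsgLib.H29.SpDegree
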