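import Mathlib

set_option autoImplicit false

/-!
Commuting elements of order prime to the characteristic, each inverted by an element centralising
the others, need dimension at least twice their number.
-/

namespace CfsgLib.H29.SpDegree

open Module

theorem card_weights_ge {ι K : Type*} [DecidableEq ι] [Field K] [DecidableEq K] (S : Finset ι) :
    ∀ Λ : Finset (ι → K), (∀ i ∈ S, ∀ l ∈ Λ, Function.update l i (l i)⁻¹ ∈ Λ) →
      (∀ i ∈ S, ∃ l ∈ Λ, l i ≠ (l i)⁻¹) → 2 * S.card ≤ Λ.card := by
  classical
  induction S using Finset.strongInduction with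
  | _ S ih =>
    intro Λ hcl hact
    rcases S.eq_empty_or_nonempty with rfl | ⟨a, ha⟩
    · simp
    letI : LinearOrder K := linearOrderOfSTO WellOrderingRel
    set B := Λ.filter (fun l => l a = (l a)⁻¹)
    set P := Λ.filter (fun l => l a < (l a)⁻¹)
    set N := Λ.filter (fun l => (l a)⁻¹ < l a)
    set fl : (ι → K) → (ι → K) := fun l => Function.update l a (l a)⁻¹
    have hfl : ∀ l, fl (fl l) = l := fun l => by simp [fl]
    have hPN : P.card = N.card := Finset.card_nbij' fl fl
      (fun l hl => by
        obtain ⟨h1, h2⟩ := Finset.mem_filter.mp hl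
        exact Finset.mem_filter.mpr ⟨hcl a ha l h1, by simpa [fl] using h2⟩)
      (fun l hl => by
        obtain ⟨h1, h2⟩ := Finset.mem_filter.mp hl
        exact Finset.mem_filter.mpr ⟨hcl a ha l h1, by simpa [fl] using h2⟩)
      (fun l _ => hfl l) (fun l _ => hfl l)
    have hsum : B.card + P.card + N.card ≤ Λ.card := by
      rw [← Finset.card_union_of_disjoint, ← Finset.card_union_of_disjoint]
      · exact Finset.card_le_card (by
          intro l hl
          simp only [Finset.mem_union, B, P, N, Finset.mem_filter] at hl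
          tauto)
      · rw [Finset.disjoint_left]
        intro l hl hl'
        simp only [Finset.mem_union, B, P, N, Finset.mem_filter] at hl hl'
        rcases hl with h | h
        · exact hl'.2.ne h.2.symm
        · exact lt_asymm hl'.2 h.2
      · rw [Finset.disjoint_left]
        intro l hl hl'
        simp only [B, P, Finset.mem_filter] at hl hl'
        exact hl'.2.ne hl.2
    set T := (S.erase a).filter (fun i => ∃ l ∈ P, l i ≠ (l i)⁻¹)
    set U := (S.erase a).filter (fun i => ∃ l ∈ B, l i ≠ (l i)⁻¹)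
    have hsub : ∀ V : Finset ι, V ⊆ S.erase a → V ⊂ S := fun V hV =>
      lt_of_le_of_lt hV (Finset.erase_ssubset ha)
    have hclB : ∀ i ∈ S.erase a, ∀ l ∈ B, Function.update l i (l i)⁻¹ ∈ B := fun i hi l hl => by
      obtain ⟨hia, hi⟩ := Finset.mem_erase.mp hi
      obtain ⟨h1, h2⟩ := Finset.mem_filter.mp hl
      exact Finset.mem_filter.mpr ⟨hcl i hi l h1, by simpa [Function.update_of_ne (Ne.symm hia)] using h2⟩
    have hclP : ∀ i ∈ S.erase a, ∀ l ∈ P, Function.update l i (l i)⁻¹ ∈ P := fun i hi l hl => by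
      obtain ⟨hia, hi⟩ := Finset.mem_erase.mp hi
      obtain ⟨h1, h2⟩ := Finset.mem_filter.mp hl
      exact Finset.mem_filter.mpr ⟨hcl i hi l h1, by simpa [Function.update_of_ne (Ne.symm hia)] using h2⟩
    have hU := ih U (hsub U (Finset.filter_subset _ _)) B
      (fun i hi => hclB i (Finset.mem_filter.mp hi).1) (fun i hi => (Finset.mem_filter.mp hi).2)
    have hT := ih T (hsub T (Finset.filter_subset _ _)) P
      (fun i hi => hclP i (Finset.mem_filter.mp hi).1) (fun i hi => (Finset.mem_filter.mp hi).2)
    have hPne : 1 ≤ P.card := by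
      obtain ⟨l, hl, hla⟩ := hact a ha
      rw [Finset.one_le_card]
      rcases lt_or_gt_of_ne hla with h | h
      · exact ⟨l, Finset.mem_filter.mpr ⟨hl, h⟩⟩
      · exact ⟨fl l, Finset.mem_filter.mpr ⟨hcl a ha l hl, by simpa [fl] using h⟩⟩
    have hcover : (S.erase a).card ≤ T.card + U.card := by
      refine le_trans (Finset.card_le_card ?_) (Finset.card_union_le T U)
      intro i hi
      obtain ⟨hia, hiS⟩ := Finset.mem_erase.mp hi
      obtain ⟨l, hl, hli⟩ := hact i hiS
      rw [Finset.mem_union, Finset.mem_filter, Finset.mem_filter]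
      rcases lt_trichotomy (l a) (l a)⁻¹ with h | h | h
      · exact Or.inl ⟨hi, l, Finset.mem_filter.mpr ⟨hl, h⟩, hli⟩
      · exact Or.inr ⟨hi, l, Finset.mem_filter.mpr ⟨hl, h⟩, hli⟩
      · refine Or.inl ⟨hi, fl l, Finset.mem_filter.mpr
          ⟨hcl a ha l hl, by simpa [fl] using h⟩, ?_⟩
        simpa [fl, Function.update_of_ne hia] using hli
    rw [Finset.card_erase_of_mem ha] at hcover
    have : 1 ≤ S.card := Finset.card_pos.mpr ⟨a, ha⟩
    omega

theorem two_mul_le_finrank {H K V : Type*} [Group H] [Field K] [IsAlgClosed K] [AddCommGroup V]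
    [Module K V] [FiniteDimensional K V] (p : ℕ) [Fact p.Prime] [CharP K p] (n : ℕ)
    (f : H →* End K V) (hf : Function.Injective f) (x w : Fin n → H)
    (hxx : ∀ i j, Commute (x i) (x j)) (hinv : ∀ i, w i * x i = (x i)⁻¹ * w i)
    (hwx : ∀ i j, i ≠ j → Commute (w i) (x j)) (hsq : ∀ i, x i ^ 2 ≠ 1)
    (hcop : ∀ i, (orderOf (x i)).Coprime p) :
    2 * n ≤ finrank K V := by
  classical
  set g : Fin n → End K V := fun i => f (x i)
  have hcomm : ∀ i j, Commute (g i) (g j) := fun i j => (hxx i j).map f
  have hmaps : ∀ i j φ, Set.MapsTo (g i) ((g j).maxGenEigenspace φ) ((g j).maxGenEigenspace φ) :=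
    fun i j φ => Module.End.mapsTo_maxGenEigenspace_of_comm (hcomm j i) φ
  have hind := Module.End.independent_iInf_maxGenEigenspace_of_forall_mapsTo g hmaps
  have htop := Module.End.iSup_iInf_maxGenEigenspace_eq_top_of_iSup_maxGenEigenspace_eq_top_of_commute
    g (fun i j _ => hcomm i j) (fun i => Module.End.iSup_maxGenEigenspace_eq_top _)
  set W : (Fin n → K) → Submodule K V := fun χ => ⨅ i, (g i).maxGenEigenspace (χ i)
  have hind' : iSupIndep W := hind
  letI : Fintype {χ // W χ ≠ ⊥} := hind'.fintypeNeBotOfFiniteDimensional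
  set Λ : Finset (Fin n → K) := (Finset.univ : Finset {χ // W χ ≠ ⊥}).map ⟨Subtype.val, Subtype.val_injective⟩
  have hmem : ∀ χ, χ ∈ Λ ↔ W χ ≠ ⊥ := fun χ => by simp [Λ]
  have hΛ : Λ.card ≤ finrank K V := by
    rw [Finset.card_map, Finset.card_univ]; exact hind'.subtype_ne_bot_le_finrank
  have hleft : ∀ i, f (x i)⁻¹ * g i = 1 := fun i => by rw [← map_mul, inv_mul_cancel, map_one]
  have hzero : ∀ i, (g i).maxGenEigenspace 0 = ⊥ := fun i => by
    refine (Submodule.eq_bot_iff _).mpr fun v hv => ?_
    obtain ⟨k, hk⟩ := (Module.End.mem_maxGenEigenspace _ _ _).mp hv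
    rw [zero_smul, sub_zero] at hk
    have hc : Commute (f (x i)⁻¹) (g i) := (Commute.refl (x i)).inv_left.map f
    have := congrArg ((f (x i)⁻¹) ^ k) hk
    rwa [← Module.End.mul_apply, ← hc.mul_pow, hleft, one_pow, map_zero] at this
  have hflip : ∀ i, ∀ χ ∈ Λ, Function.update χ i (χ i)⁻¹ ∈ Λ := by
    intro i χ hχ
    rw [hmem] at hχ ⊢
    obtain ⟨v, hv, hv0⟩ := Submodule.exists_mem_ne_zero_of_ne_bot hχ
    rw [Submodule.ne_bot_iff]
    refine ⟨f (w i) v, ?_, fun h => hv0 ?_⟩
    · rw [Submodule.mem_iInf] at hv ⊢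
      intro j
      by_cases hji : j = i
      · subst hji
        rw [Function.update_self]
        have hc0 : χ j ≠ 0 := fun h => hv0 (by simpa [h, hzero] using hv j)
        obtain ⟨k, hk⟩ := (Module.End.mem_maxGenEigenspace _ _ _).mp (hv j)
        refine (Module.End.mem_maxGenEigenspace _ _ _).mpr ⟨k, ?_⟩
        have key : (g j - (χ j)⁻¹ • (1 : End K V)) * f (w j) =
            f (w j) * ((-(χ j)⁻¹) • f (x j)⁻¹ * (g j - χ j • (1 : End K V))) := by
          have e1 : g j * f (w j) = f (w j) * f (x j)⁻¹ := by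
            rw [← map_mul, ← map_mul]; congr 1
            calc x j * w j = x j * (w j * x j) * (x j)⁻¹ := by group
              _ = w j * (x j)⁻¹ := by rw [hinv]; group
          rw [sub_mul, e1, smul_mul_assoc, one_mul, mul_sub, smul_mul_assoc, mul_smul_comm, hleft,
            mul_one, smul_smul, mul_neg, mul_inv_cancel₀ hc0, neg_one_smul, mul_sub, mul_smul_comm,
            mul_one, mul_neg, neg_smul, sub_neg_eq_add]
          abel
        have hpow : ∀ m, (g j - (χ j)⁻¹ • (1 : End K V)) ^ m * f (w j) =
            f (w j) * ((-(χ j)⁻¹) • f (x j)⁻¹ * (g j - χ j • (1 : End K V))) ^ m := fun m => by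
          induction m with
          | zero => simp
          | succ m ih => rw [pow_succ, mul_assoc, key, ← mul_assoc, ih, mul_assoc, ← pow_succ]
        have hc : Commute ((-(χ j)⁻¹) • f (x j)⁻¹) (g j - χ j • (1 : End K V)) :=
          (((Commute.refl (x j)).inv_left.map f).sub_right
            ((Commute.one_right _).smul_right _)).smul_left _
        rw [← Module.End.mul_apply, hpow, hc.mul_pow, Module.End.mul_apply, Module.End.mul_apply, hk,
          map_zero, map_zero]
      · rw [Function.update_of_ne hji]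
        exact Module.End.mapsTo_maxGenEigenspace_of_comm ((hwx i j (Ne.symm hji)).map f).symm _ (hv j)
    · have := congrArg (f (w i)⁻¹) h
      rwa [← Module.End.mul_apply, ← map_mul, inv_mul_cancel, map_one, Module.End.one_apply,
        map_zero] at this
  have hact : ∀ i, ∃ χ ∈ Λ, χ i ≠ (χ i)⁻¹ := by
    intro i
    by_contra hcon
    push Not at hcon
    have hnil : ∀ v : V, ∃ k : ℕ, ((g i ^ 2 - 1 : End K V) ^ k) v = 0 := by
      have hle : (⊤ : Submodule K V) ≤ (g i ^ 2).maxGenEigenspace 1 := by
        rw [← htop]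
        refine iSup_le fun χ => ?_
        by_cases hχ : W χ = ⊥
        · exact hχ.le.trans bot_le
        intro v hv
        have h1 := (Submodule.mem_iInf _).mp hv i
        have hc : χ i * χ i = 1 := by
          have := hcon χ ((hmem χ).mpr hχ)
          have hc0 : χ i ≠ 0 := fun h => hχ (le_bot_iff.mp ((iInf_le _ i).trans (by rw [h, hzero])))
          nth_rewrite 2 [this]
          exact mul_inv_cancel₀ hc0
        obtain ⟨k, hk⟩ := (Module.End.mem_maxGenEigenspace _ _ _).mp h1
        refine (Module.End.mem_maxGenEigenspace _ _ _).mpr ⟨k, ?_⟩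
        have : g i ^ 2 - (1 : K) • (1 : End K V) =
            (g i + χ i • (1 : End K V)) * (g i - χ i • (1 : End K V)) := by
          simp only [add_mul, mul_sub, smul_mul_assoc, mul_smul_comm, mul_one, one_mul, smul_add, smul_smul, hc,
            one_smul, pow_two]
          abel
        rw [this, Commute.mul_pow, Module.End.mul_apply, hk, map_zero]
        exact ((Commute.refl _).add_left ((Commute.one_left _).smul_left _)).sub_right
          ((Commute.one_right _).smul_right _)
      intro v
      obtain ⟨k, hk⟩ := (Module.End.mem_maxGenEigenspace _ _ _).mp (hle (Submodule.mem_top (x := v)))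
      exact ⟨k, by rwa [one_smul] at hk⟩
    have hN : IsNilpotent (g i ^ 2 - 1) := by
      rw [Module.End.isNilpotent_iff_of_finite]; exact hnil
    obtain ⟨k, hk⟩ := hN
    have hp := (Fact.out : p.Prime)
    have hpk : (g i ^ 2 - 1) ^ (p ^ k) = 0 := pow_eq_zero_of_le (Nat.lt_pow_self hp.one_lt).le hk
    have : Nontrivial V := by
      by_contra hV
      rw [not_nontrivial_iff_subsingleton] at hV
      exact hsq i (hf (LinearMap.ext fun v => Subsingleton.elim _ _))
    have : CharP (End K V) p := charP_of_injective_algebraMap' K p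
    rw [sub_pow_char_pow_of_commute _ _ (Commute.one_right _), one_pow, sub_eq_zero,
      ← map_pow, ← map_pow, map_eq_one_iff f hf] at hpk
    have hd : orderOf (x i ^ 2) ∣ p ^ k := orderOf_dvd_of_pow_eq_one hpk
    have h2 : orderOf (x i ^ 2) ∣ orderOf (x i) := orderOf_pow_dvd 2
    exact hsq i (orderOf_eq_one_iff.mp (Nat.eq_one_of_dvd_coprimes
      ((hcop i).pow_right k) h2 hd))
  have := card_weights_ge (Finset.univ : Finset (Fin n)) Λ (fun i _ => hflip i) (fun i _ => hact i)
  rw [Finset.card_univ, Fintype.card_fin] at this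
  omega

end CfsgLib.H29.SpDegree
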